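import Cfsg.Agent.H75.Ore.ThLocFour
import Cfsg.Agent.H980.Ore.ThRow
import Cfsg.Agent.H174.Ore.DegTh
import Cfsg.Agent.H854.Ore.FourT

/-!
# `Th`: every element is a product of four elements of square one (helper75)  [S4171]

* `bound` : `x ≠ 1` with a centralizer of odd order has `|C(x)| ≤ 3000`;
* `t1i` : `|C(g)| ≤ 3416` implies that `g` is a product of four elements of square one (the prime 19);
* `four_th` : the row.
-/

set_option autoImplicit false
set_option maxRecDepth 100000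

namespace Cfsg.Agent.H75.Ore.ThFour

open Subgroup Cfsg Cfsg.Agent.H502.TO
open Cfsg.Agent.H653.Sieve Cfsg.Agent.H651.Two
open Cfsg.Agent.H777.Ore Cfsg.Agent.H511.Ore

universe u

/-- an element of order three commutes with an involution -/
theorem even_of_three {x : Spor.Th} (hx : orderOf x = 3) :
    2 ∣ Nat.card (centralizer ({x} : Set Spor.Th)) := by
  have := fin_th
  obtain ⟨i, hi1, hi2, hi3⟩ := Cfsg.Agent.H894.ThThree.exists_inv_of_three (x := x)
    (by rw [← hx]; exact pow_orderOf_eq_one x)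
  have hi : orderOf i = 2 := by
    have : Fact (Nat.Prime 2) := ⟨Nat.prime_two⟩
    exact orderOf_eq_prime (by rw [pow_two]; exact hi2) hi1
  rw [← hi]
  exact dvd_of_comm hi3.symm

/-- a prime `r` dividing `|C(x)|`, when `|C(y)|` is known for the elements of order `r` -/
theorem le_of_prime {r c : ℕ} (hr : r.Prime) (hc : ∀ y : Spor.Th, orderOf y = r →
    Nat.card (centralizer ({y} : Set Spor.Th)) = c) (hnum : ∃ a b k : ℕ, c = 3 ^ k * 2 ^ a * r ^ b ∧ k ≤ 1) {x : Spor.Th}
    (hx : x ≠ 1) (hodd : Odd (Nat.card (centralizer ({x} : Set Spor.Th))))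
    (hd : r ∣ Nat.card (centralizer ({x} : Set Spor.Th))) : Nat.card (centralizer ({x} : Set Spor.Th)) ≤ c := by
  have := fin_th
  have h2 : ¬ 2 ∣ Nat.card (centralizer ({x} : Set Spor.Th)) :=
    fun h => (Nat.not_even_iff_odd.2 hodd) (even_iff_two_dvd.2 h)
  obtain ⟨y, hyF, hy⟩ := exists_of_dvd hr hd
  have hyx : y * x = x * y := mem_centralizer_singleton_iff.1 hyF
  have hoF : orderOf x ∣ Nat.card (centralizer ({x} : Set Spor.Th)) := dvd_of_comm rfl
  have ho : orderOf x ∣ c := by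
    rw [← hc y hy]
    exact dvd_of_comm hyx.symm
  by_cases hrx : r ∣ orderOf x
  · have hz : orderOf (x ^ (orderOf x / r)) = r := orderOf_pow_orderOf_div (orderOf_pos x).ne' hrx
    have hle : centralizer ({x} : Set Spor.Th) ≤ centralizer ({x ^ (orderOf x / r)} : Set Spor.Th) := by
      intro u hu
      rw [mem_centralizer_singleton_iff]
      exact ((show Commute u x from mem_centralizer_singleton_iff.1 hu).pow_right _).eq
    have h3 := Subgroup.card_le_of_le hle
    rwa [hc _ hz] at h3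
  · exfalso
    obtain ⟨a, b, k, e, hk⟩ := hnum
    rw [e] at ho
    have k1 := dvd_of_not hr ho hrx
    have k2 := dvd_of_not Nat.prime_two k1 (fun h => h2 (h.trans hoF))
    have k3 : orderOf x ∣ 3 ^ 1 := k2.trans (pow_dvd_pow 3 hk)
    rw [pow_one] at k3
    rcases (Nat.dvd_prime Nat.prime_three).1 k3 with h4 | h4
    · exact hx (orderOf_eq_one_iff.1 h4)
    · exact h2 (even_of_three h4)

theorem card31 {y : Spor.Th} (hy : orderOf y = 31) : Nat.card (centralizer ({y} : Set Spor.Th)) = 31 := by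
  obtain ⟨f, hf⟩ := H174.Ore.Th.exists_emb
  exact H829.Pw.th_cent31 hf hy

theorem card19 {y : Spor.Th} (hy : orderOf y = 19) : Nat.card (centralizer ({y} : Set Spor.Th)) = 19 := by
  obtain ⟨f, hf⟩ := H174.Ore.Th.exists_emb
  exact (H829.Pw.th_cent19 hf hy).1

/-- **an element of the Thompson group which commutes with no involution has `|C(x)| ≤ 3000`** -/
theorem bound {x : Spor.Th} (hx : x ≠ 1) (hodd : Odd (Nat.card (centralizer ({x} : Set Spor.Th)))) :
    Nat.card (centralizer ({x} : Set Spor.Th)) ≤ 3000 := by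
  have := fin_th
  have hcard := card_th
  by_contra hge
  have h2 : ¬ 2 ∣ Nat.card (centralizer ({x} : Set Spor.Th)) :=
    fun h => (Nat.not_even_iff_odd.2 hodd) (even_iff_two_dvd.2 h)
  have h5 : ¬ 5 ∣ Nat.card (centralizer ({x} : Set Spor.Th)) := fun h => hge
    (le_of_prime (c := 3000) (by norm_num) (fun y hy => card_five hy) ⟨3, 3, 1, by norm_num⟩ hx hodd h)
  have h7 : ¬ 7 ∣ Nat.card (centralizer ({x} : Set Spor.Th)) := fun h => hge
    ((le_of_prime (c := 1176) (by norm_num) (fun y hy => Cfsg.Agent.H468.PW.ThP.card_cent hy) ⟨3, 2, 1, by norm_num⟩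
      hx hodd h).trans (by norm_num))
  have h13 : ¬ 13 ∣ Nat.card (centralizer ({x} : Set Spor.Th)) := fun h => hge
    ((le_of_prime (c := 39) (by norm_num) (fun y hy => H174.Ore.Th.cent_thirteen hy) ⟨0, 1, 1, by norm_num⟩
      hx hodd h).trans (by norm_num))
  have h19 : ¬ 19 ∣ Nat.card (centralizer ({x} : Set Spor.Th)) := fun h => hge
    ((le_of_prime (c := 19) (by norm_num) (fun y hy => card19 hy) ⟨0, 1, 0, by norm_num⟩
      hx hodd h).trans (by norm_num))
  have h31 : ¬ 31 ∣ Nat.card (centralizer ({x} : Set Spor.Th)) := fun h => hge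
    ((le_of_prime (c := 31) (by norm_num) (fun y hy => card31 hy) ⟨0, 1, 0, by norm_num⟩
      hx hodd h).trans (by norm_num))
  set F := centralizer ({x} : Set Spor.Th) with hF
  have hFG : Nat.card F ∣ 90745943887872000 := by rw [← hcard]; exact Subgroup.card_subgroup_dvd_card _
  have k1 : Nat.card F ∣ (3 ^ 10 * 7 ^ 2 * 13 * 19 * 31 * 5 ^ 3) * 2 ^ 15 := hFG.trans (by norm_num)
  have k2 : Nat.card F ∣ (3 ^ 10 * 7 ^ 2 * 13 * 19 * 31) * 5 ^ 3 := dvd_of_not Nat.prime_two k1 h2
  have k3 : Nat.card F ∣ (3 ^ 10 * 13 * 19 * 31) * 7 ^ 2 := (dvd_of_not (by norm_num) k2 h5).trans (by norm_num)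
  have k4 : Nat.card F ∣ (3 ^ 10 * 13 * 19) * 31 ^ 1 := (dvd_of_not (by norm_num) k3 h7).trans (by norm_num)
  have k5 : Nat.card F ∣ (3 ^ 10 * 13) * 19 ^ 1 := (dvd_of_not (by norm_num) k4 h31).trans (by norm_num)
  have k6 : Nat.card F ∣ 3 ^ 10 * 13 ^ 1 := (dvd_of_not (by norm_num) k5 h19).trans (by norm_num)
  have k7 : Nat.card F ∣ 3 ^ 10 := dvd_of_not (by norm_num) k6 h13
  have h3F : Fact (Nat.Prime 3) := ⟨Nat.prime_three⟩
  have memF : ∀ {u : Spor.Th}, u ∈ F ↔ u * x = x * u := fun {u} => mem_centralizer_singleton_iff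
  have hoF : orderOf x ∣ Nat.card F := dvd_of_comm rfl
  have h38 : ¬ 3 ^ 8 ∣ Nat.card F := by
    intro h
    have h5 : orderOf x ∣ 3 ^ 10 := hoF.trans k7
    obtain ⟨R', hR'⟩ := Sylow.exists_subgroup_card_pow_prime (G := F) 3 h
    have hR : Nat.card (R'.map F.subtype) = 3 ^ 8 := by rw [card_map_of_injective (subtype_injective _), hR']
    obtain ⟨s, hs, hsx⟩ := star hx (orderOf_dvd_iff_pow_eq_one.1 h5) (IsPGroup.of_card hR) (by
      rintro _ ⟨r, hr, rfl⟩
      exact (memF.1 r.2).symm) (by rw [hR])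
    apply h2
    rw [← hs]
    exact dvd_of_comm hsx
  have k8 : Nat.card F ∣ 1 * 3 ^ 7 := dvd_of_not_pow Nat.prime_three (by rwa [one_mul]) h38
  have k9 := Nat.le_of_dvd (by norm_num) k8
  norm_num at k9
  omega

/-- elements of order 19 are inverted by an involution -/
theorem real19 {x : Spor.Th} (hx : orderOf x = 19) : H854.Ore.SR x := by
  have := fin_th
  have : Fact (Nat.Prime 19) := ⟨by norm_num⟩
  refine H854.Ore.invert_of_card (p := 19) (by norm_num) hx (card19 hx) ?_
  obtain ⟨f, hf⟩ := H174.Ore.Th.exists_emb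
  have h1 := (H829.Pw.th_cent19 hf hx).2
  rw [show Nat.card (normalizer ((zpowers x : Subgroup Spor.Th) : Set Spor.Th)) = 19 * 18 from h1]
  norm_num

theorem i4_of_card {g : Spor.Th} (hg : Nat.card (centralizer ({g} : Set Spor.Th)) ≤ 3416) : I4 g := by
  have := H174.Ore.Th.finite
  have := H174.Ore.Th.simple
  exact H854.Ore.i4_of_data H174.Ore.Th.nonab 90745943887872000 H174.Ore.Th.card H174.Ore.Th.fac H174.Ore.Th.chk2
    H174.Ore.Th.chk3 H174.Ore.Th.cd H174.Ore.Th.chk1 H174.Ore.Th.has (m := 0) (D := 248) (ex := []) minDeg_zero noDeg_nil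
    H174.Ore.Th.c19 (by simp [H174.Ore.Th.cd]) rfl (by decide +kernel) (fun x hx => real19 hx) 3416 (by decide +kernel) hg

theorem inv4 : Inv4 Spor.Th := by
  intro x
  have := fin_th
  by_cases hx : x = 1
  · rw [hx]
    exact ⟨1, 1, 1, 1, by simp⟩
  by_cases hodd : Odd (Nat.card (centralizer ({x} : Set Spor.Th)))
  · exact i4_of_card ((bound hx hodd).trans (by norm_num))
  · rw [Nat.not_odd_iff_even, even_iff_two_dvd] at hodd
    obtain ⟨i, hiF, hi⟩ := exists_of_dvd Nat.prime_two hodd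
    exact ThLocFour.i4_of_comm_inv hi (mem_centralizer_singleton_iff.1 hiF).symm

/-- **the row `Th` of S4171** -/
theorem four_th {S : Type u} [Group S] (h : Spor.IsoTh S) : Inv4 S := by
  obtain ⟨e⟩ := h
  intro g
  obtain ⟨a, b, c, d, ha, hb, hc, hd, e'⟩ := inv4 (e g)
  refine ⟨e.symm a, e.symm b, e.symm c, e.symm d, ?_, ?_, ?_, ?_, ?_⟩
  · rw [← map_mul, ha, map_one]
  · rw [← map_mul, hb, map_one]
  · rw [← map_mul, hc, map_one]
  · rw [← map_mul, hd, map_one]
  · rw [← map_mul, ← map_mul, ← map_mul, ← e', MulEquiv.symm_apply_apply]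

end Cfsg.Agent.H75.Ore.ThFour
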