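import Cfsg.Agent.H683.Ore.A9

/-!
# Every element of `A_9` is a product of four involutions of type `2^4`, with `5 ∣ |s t|` (helper75)
-/

set_option autoImplicit false
set_option maxRecDepth 10000

namespace Cfsg.Agent.H75.Ore.A9Four

open Equiv Equiv.Perm
open Cfsg.Agent.H683.Ore

/-- permutations of nine points -/
abbrev P9 := Perm (Fin 9)

/-- the cycle type `2^4` -/
def T2 (s : P9) : Prop := s.cycleType = {2, 2, 2, 2}

/-- the certificate for the cycle type `m` -/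
def Ok (m : Multiset ℕ) : Prop := ∃ s t u v : P9, T2 s ∧ T2 t ∧ T2 u ∧ T2 v ∧ (s * t * u * v).cycleType = m ∧
  5 ∣ orderOf (s * t)

theorem ok_of (s t u v : P9) (m : Multiset ℕ) (i : ℕ)
    (h1 : s.cycleType = {2, 2, 2, 2} ∧ t.cycleType = {2, 2, 2, 2} ∧ u.cycleType = {2, 2, 2, 2} ∧ v.cycleType = {2, 2, 2, 2})
    (h2 : (s * t * u * v).cycleType = m) (h3 : ((s * t) ^ i) ^ 5 = 1 ∧ (s * t) ^ i ≠ 1) : Ok m :=
  ⟨s, t, u, v, h1.1, h1.2.1, h1.2.2.1, h1.2.2.2, h2, A9.dvd_of (by norm_num) i h3.1 h3.2⟩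

/-- an involution from its table -/
def mk (f : Fin 9 → Fin 9) (h : ∀ x, f (f x) = x) : P9 := ⟨f, f, h, h⟩

theorem ok0 : Ok ([] : List ℕ) :=
  ok_of (mk ![5, 8, 2, 7, 6, 0, 4, 3, 1] (by decide)) (mk ![1, 0, 5, 7, 6, 2, 4, 3, 8] (by decide)) (mk ![5, 8, 2, 7, 6, 0, 4, 3, 1] (by decide)) (mk ![2, 1, 0, 7, 6, 8, 4, 3, 5] (by decide))
    _ 1 (by decide +kernel) (by decide +kernel) (by decide +kernel)

theorem ok1 : Ok ([2, 2] : List ℕ) :=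
  ok_of (mk ![3, 6, 2, 0, 7, 8, 1, 4, 5] (by decide)) (mk ![0, 3, 6, 1, 5, 4, 2, 8, 7] (by decide)) (mk ![5, 7, 3, 2, 4, 0, 8, 1, 6] (by decide)) (mk ![7, 3, 6, 1, 8, 5, 2, 0, 4] (by decide))
    _ 2 (by decide +kernel) (by decide +kernel) (by decide +kernel)

theorem ok2 : Ok ([2, 2, 2, 2] : List ℕ) :=
  ok_of (mk ![4, 8, 2, 6, 0, 7, 3, 5, 1] (by decide)) (mk ![6, 5, 3, 2, 4, 1, 0, 8, 7] (by decide)) (mk ![4, 8, 3, 2, 0, 6, 5, 7, 1] (by decide)) (mk ![2, 1, 0, 6, 8, 7, 3, 5, 4] (by decide))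
    _ 2 (by decide +kernel) (by decide +kernel) (by decide +kernel)

theorem ok3 : Ok ([3] : List ℕ) :=
  ok_of (mk ![3, 2, 1, 0, 7, 6, 5, 4, 8] (by decide)) (mk ![3, 2, 1, 0, 8, 5, 7, 6, 4] (by decide)) (mk ![4, 6, 3, 2, 0, 5, 1, 8, 7] (by decide)) (mk ![8, 4, 3, 2, 1, 6, 5, 7, 0] (by decide))
    _ 1 (by decide +kernel) (by decide +kernel) (by decide +kernel)

theorem ok4 : Ok ([3, 2, 2] : List ℕ) :=
  ok_of (mk ![8, 3, 2, 1, 6, 7, 4, 5, 0] (by decide)) (mk ![4, 2, 1, 5, 0, 3, 8, 7, 6] (by decide)) (mk ![2, 8, 0, 3, 5, 4, 7, 6, 1] (by decide)) (mk ![8, 4, 7, 5, 1, 3, 6, 2, 0] (by decide))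
    _ 2 (by decide +kernel) (by decide +kernel) (by decide +kernel)

theorem ok5 : Ok ([3, 3] : List ℕ) :=
  ok_of (mk ![5, 3, 7, 1, 8, 0, 6, 2, 4] (by decide)) (mk ![7, 6, 5, 4, 3, 2, 1, 0, 8] (by decide)) (mk ![7, 2, 1, 8, 6, 5, 4, 0, 3] (by decide)) (mk ![6, 8, 2, 4, 3, 7, 0, 5, 1] (by decide))
    _ 2 (by decide +kernel) (by decide +kernel) (by decide +kernel)

theorem ok6 : Ok ([3, 3, 3] : List ℕ) :=
  ok_of (mk ![4, 1, 7, 8, 0, 6, 5, 2, 3] (by decide)) (mk ![5, 2, 1, 3, 6, 0, 4, 8, 7] (by decide)) (mk ![4, 2, 1, 3, 0, 6, 5, 8, 7] (by decide)) (mk ![8, 2, 1, 6, 5, 4, 3, 7, 0] (by decide))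
    _ 2 (by decide +kernel) (by decide +kernel) (by decide +kernel)

theorem ok7 : Ok ([4, 2] : List ℕ) :=
  ok_of (mk ![0, 8, 6, 7, 5, 4, 2, 3, 1] (by decide)) (mk ![3, 2, 1, 0, 7, 5, 8, 4, 6] (by decide)) (mk ![2, 4, 0, 3, 1, 6, 5, 8, 7] (by decide)) (mk ![7, 1, 3, 2, 6, 8, 4, 0, 5] (by decide))
    _ 2 (by decide +kernel) (by decide +kernel) (by decide +kernel)

theorem ok8 : Ok ([4, 3, 2] : List ℕ) :=
  ok_of (mk ![7, 4, 3, 2, 1, 6, 5, 0, 8] (by decide)) (mk ![7, 4, 5, 8, 1, 2, 6, 0, 3] (by decide)) (mk ![8, 5, 4, 6, 2, 1, 3, 7, 0] (by decide)) (mk ![3, 4, 7, 0, 1, 6, 5, 2, 8] (by decide))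
    _ 1 (by decide +kernel) (by decide +kernel) (by decide +kernel)

theorem ok9 : Ok ([4, 4] : List ℕ) :=
  ok_of (mk ![8, 1, 6, 5, 7, 3, 2, 4, 0] (by decide)) (mk ![4, 8, 5, 6, 0, 2, 3, 7, 1] (by decide)) (mk ![4, 2, 1, 3, 0, 7, 8, 5, 6] (by decide)) (mk ![7, 4, 3, 2, 1, 6, 5, 0, 8] (by decide))
    _ 2 (by decide +kernel) (by decide +kernel) (by decide +kernel)

theorem ok10 : Ok ([5] : List ℕ) :=
  ok_of (mk ![6, 7, 3, 2, 5, 4, 0, 1, 8] (by decide)) (mk ![4, 1, 8, 7, 0, 6, 5, 3, 2] (by decide)) (mk ![8, 3, 7, 1, 4, 6, 5, 2, 0] (by decide)) (mk ![3, 6, 2, 0, 5, 4, 1, 8, 7] (by decide))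
    _ 2 (by decide +kernel) (by decide +kernel) (by decide +kernel)

theorem ok11 : Ok ([5, 2, 2] : List ℕ) :=
  ok_of (mk ![7, 3, 4, 1, 2, 5, 8, 0, 6] (by decide)) (mk ![7, 8, 4, 3, 2, 6, 5, 0, 1] (by decide)) (mk ![5, 2, 1, 6, 7, 0, 3, 4, 8] (by decide)) (mk ![0, 3, 4, 1, 2, 8, 7, 6, 5] (by decide))
    _ 1 (by decide +kernel) (by decide +kernel) (by decide +kernel)

theorem ok12 : Ok ([5, 3] : List ℕ) :=
  ok_of (mk ![3, 4, 2, 0, 1, 6, 5, 8, 7] (by decide)) (mk ![5, 4, 6, 3, 1, 0, 2, 8, 7] (by decide)) (mk ![6, 2, 1, 8, 5, 4, 0, 7, 3] (by decide)) (mk ![7, 5, 8, 3, 6, 1, 4, 0, 2] (by decide))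
    _ 1 (by decide +kernel) (by decide +kernel) (by decide +kernel)

theorem ok13 : Ok ([6, 2] : List ℕ) :=
  ok_of (mk ![8, 3, 2, 1, 6, 7, 4, 5, 0] (by decide)) (mk ![6, 7, 5, 3, 8, 2, 0, 1, 4] (by decide)) (mk ![3, 8, 4, 0, 2, 6, 5, 7, 1] (by decide)) (mk ![3, 1, 6, 0, 5, 4, 2, 8, 7] (by decide))
    _ 2 (by decide +kernel) (by decide +kernel) (by decide +kernel)

theorem ok14 : Ok ([7] : List ℕ) :=
  ok_of (mk ![5, 4, 6, 8, 1, 0, 2, 7, 3] (by decide)) (mk ![6, 8, 7, 4, 3, 5, 0, 2, 1] (by decide)) (mk ![6, 3, 2, 1, 8, 7, 0, 5, 4] (by decide)) (mk ![4, 5, 6, 7, 0, 1, 2, 3, 8] (by decide))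
    _ 2 (by decide +kernel) (by decide +kernel) (by decide +kernel)

theorem ok15 : Ok ([9] : List ℕ) :=
  ok_of (mk ![0, 5, 6, 8, 7, 1, 2, 4, 3] (by decide)) (mk ![2, 1, 0, 8, 7, 6, 5, 4, 3] (by decide)) (mk ![4, 2, 1, 5, 0, 3, 7, 6, 8] (by decide)) (mk ![7, 5, 4, 8, 2, 1, 6, 0, 3] (by decide))
    _ 1 (by decide +kernel) (by decide +kernel) (by decide +kernel)

/-- the even cycle types -/
def types : List (List ℕ) := [[], [2, 2], [2, 2, 2, 2], [3], [3, 2, 2], [3, 3], [3, 3, 3], [4, 2], [4, 3, 2], [4, 4], [5], [5, 2, 2], [5, 3], [6, 2], [7], [9]]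

theorem cases_types : ∀ l ∈ gen 9 9 9, (l.sum + l.length) % 2 = 0 → l ∈ types := by decide +kernel

theorem ok_types : ∀ m ∈ types, Ok (m : Multiset ℕ) := by
  intro m hm
  simp only [types, List.mem_cons, List.not_mem_nil, or_false] at hm
  rcases hm with rfl | rfl | rfl | rfl | rfl | rfl | rfl | rfl | rfl | rfl | rfl | rfl | rfl | rfl | rfl | rfl
  · exact ok0
  · exact ok1
  · exact ok2
  · exact ok3
  · exact ok4
  · exact ok5
  · exact ok6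
  · exact ok7
  · exact ok8
  · exact ok9
  · exact ok10
  · exact ok11
  · exact ok12
  · exact ok13
  · exact ok14
  · exact ok15

theorem ok_all (σ : P9) (h2 : sign σ = 1) : Ok σ.cycleType := by
  obtain ⟨l, hl, h⟩ := cycleType_mem_gen σ
  rw [h]
  apply ok_types
  refine cases_types l hl ?_
  rw [sign_of_cycleType, h] at h2
  simp only [Multiset.sum_coe, Multiset.coe_card] at h2
  by_contra hodd
  have h3 : Odd (l.sum + l.length) := Nat.odd_iff.2 (by omega)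
  rw [h3.neg_one_pow] at h2
  exact absurd h2 (by decide)

theorem T2.sign {s : P9} (h : T2 s) : sign s = 1 := by
  unfold T2 at h
  rw [sign_of_cycleType, h]
  decide

theorem T2.conj {s : P9} (h : T2 s) (c : P9) : T2 (c * s * c⁻¹) := by
  unfold T2 at *
  rw [cycleType_conj, h]

/-- every element of `A_9` is a product of four involutions of type `2^4`, with `5 ∣ |s t|` -/
theorem four (l : alternatingGroup (Fin 9)) : ∃ s t u v : alternatingGroup (Fin 9), T2 s.1 ∧ T2 t.1 ∧ T2 u.1 ∧ T2 v.1 ∧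
    l = s * t * u * v ∧ 5 ∣ orderOf (s * t) := by
  obtain ⟨s, t, u, v, hs, ht, hu, hv, hm, h5⟩ := ok_all l.1 (mem_alternatingGroup.1 l.2)
  obtain ⟨c, hc⟩ := isConj_iff.1 (isConj_iff_cycleType_eq.2 hm)
  refine ⟨⟨c * s * c⁻¹, mem_alternatingGroup.2 (hs.conj c).sign⟩, ⟨c * t * c⁻¹, mem_alternatingGroup.2 (ht.conj c).sign⟩,
    ⟨c * u * c⁻¹, mem_alternatingGroup.2 (hu.conj c).sign⟩, ⟨c * v * c⁻¹, mem_alternatingGroup.2 (hv.conj c).sign⟩,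
    hs.conj c, ht.conj c, hu.conj c, hv.conj c, ?_, ?_⟩
  · apply Subtype.ext
    change l.1 = (c * s * c⁻¹) * (c * t * c⁻¹) * (c * u * c⁻¹) * (c * v * c⁻¹)
    rw [← hc]
    group
  · have h1 : ((⟨c * s * c⁻¹, mem_alternatingGroup.2 (hs.conj c).sign⟩ *
      ⟨c * t * c⁻¹, mem_alternatingGroup.2 (ht.conj c).sign⟩ : alternatingGroup (Fin 9)) : P9) = c * (s * t) * c⁻¹ := by
      change (c * s * c⁻¹) * (c * t * c⁻¹) = _
      group
    rw [← Subgroup.orderOf_coe, h1]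
    have : orderOf (c * (s * t) * c⁻¹) = orderOf (s * t) := by
      rw [← MulAut.conj_apply]
      exact orderOf_injective (MulAut.conj c).toMonoidHom (MulAut.conj c).injective (s * t)
    rwa [this]

end Cfsg.Agent.H75.Ore.A9Four
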