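import Cfsg.Agent.H980.Ore.ThLoc
import Cfsg.Agent.H529.Inv.Coset
import Cfsg.Agent.H75.Ore.A9Four

/-!
# Four involutions in the Thompson group, local part (helper75)  [S4171]

Every element commuting with an involution is a product of four elements of square one.
-/

set_option autoImplicit false
set_option maxRecDepth 100000

namespace Cfsg.Agent.H75.Ore.ThLocFour

open Cfsg.Agent.Th.Base Cfsg.Agent.Th.Word Cfsg.Agent.Th.RelWords Cfsg.Agent.Th.PermTab
  Cfsg.Agent.Th.KOracle Cfsg.Agent.Th.KPerm Cfsg.Agent.Th.NineAct Cfsg.Agent.Th.CStruct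
  Cfsg.Agent.Th.COracleDef Cfsg.Agent.Th.IndexUpper
open Cfsg.Agent.KFacts.Th.Mask Cfsg.Agent.KFacts.Th.Struct Cfsg.Agent.KFacts.Th
open Cfsg.Agent.H980.Ore.ThLoc
open scoped commutatorElement

universe u

/-- conjugacy in the alternating group -/
theorem conjA {n : ℕ} (σ τ : alternatingGroup (Fin n))
    (h : (σ : Equiv.Perm (Fin n)).cycleType = (τ : Equiv.Perm (Fin n)).cycleType)
    (c : Equiv.Perm (Fin n)) (hc : Equiv.Perm.sign c = -1) (hcτ : c * τ = τ * c) :
    ∃ π : alternatingGroup (Fin n), π * σ * π⁻¹ = τ := by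
  have h1 := Equiv.Perm.isConj_iff_cycleType_eq.2 h
  obtain ⟨π, hπ⟩ := isConj_iff.1 h1
  rcases Int.units_eq_one_or (Equiv.Perm.sign π) with h2 | h2
  · exact ⟨⟨π, Equiv.Perm.mem_alternatingGroup.2 h2⟩, Subtype.ext hπ⟩
  · refine ⟨⟨c * π, Equiv.Perm.mem_alternatingGroup.2 (by rw [map_mul, h2, hc]; decide)⟩, Subtype.ext ?_⟩
    change c * π * (σ : Equiv.Perm (Fin n)) * (c * π)⁻¹ = τ
    calc c * π * (σ : Equiv.Perm (Fin n)) * (c * π)⁻¹ = c * (π * σ * π⁻¹) * c⁻¹ := by group
      _ = τ := by rw [hπ, hcτ, mul_inv_cancel_right]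

section

variable {G : Type u} [Group G] {γ : ℕ → G} (h : Ctx γ)

include h in
/-- the data of `KFacts/Th/Main` together with the permutations of the words -/
theorem exists_data : ∃ π : Subgroup.centralizer ({γ 1} : Set G) →* alternatingGroup (Fin 9),
    Cfsg.Agent.KFacts.LargeSheet.Data (Q0 γ) (γ 1) (alternatingGroup (Fin 9)) π ∧
    ∃ s : Subgroup.centralizer ({γ 1} : Set G), s * s = 1 ∧ A9Four.T2 (π s : Equiv.Perm (Fin 9)) ∧
      ∃ c : Equiv.Perm (Fin 9), Equiv.Perm.sign c = -1 ∧ c * (π s : Equiv.Perm (Fin 9)) = (π s : Equiv.Perm (Fin 9)) * c := by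
  obtain ⟨f, hf, hker, hw⟩ := h.exists_epi
  let e : Subgroup.centralizer ({γ 1} : Set G) ≃* sub γ isC := MulEquiv.subgroupCongr h.cent
  refine ⟨f.comp e.toMonoidHom, ?_, ?_⟩
  · constructor
    · exact Cfsg.Agent.KFacts.Th.Main.large h
    · have m1 : (Equiv.swap 0 1 * Equiv.swap 1 2 : Equiv.Perm (Fin 9)) ∈ alternatingGroup (Fin 9) := by
        rw [Equiv.Perm.mem_alternatingGroup, map_mul, Equiv.Perm.sign_swap (by decide),
          Equiv.Perm.sign_swap (by decide)]
        decide
      have m2 : (Equiv.swap 0 1 * Equiv.swap 1 3 : Equiv.Perm (Fin 9)) ∈ alternatingGroup (Fin 9) := by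
        rw [Equiv.Perm.mem_alternatingGroup, map_mul, Equiv.Perm.sign_swap (by decide),
          Equiv.Perm.sign_swap (by decide)]
        decide
      refine ⟨⟨_, m1⟩, ⟨_, m2⟩, fun h2 => ?_⟩
      have h4 := congrArg Subtype.val h2
      have h5 : ((Equiv.swap 0 1 * Equiv.swap 1 2) * (Equiv.swap 0 1 * Equiv.swap 1 3) : Equiv.Perm (Fin 9)) 0 =
        ((Equiv.swap 0 1 * Equiv.swap 1 3) * (Equiv.swap 0 1 * Equiv.swap 1 2) : Equiv.Perm (Fin 9)) 0 :=
        congrArg (fun z : Equiv.Perm (Fin 9) => z 0) h4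
      exact absurd h5 (by decide +kernel)
    · exact hf.comp e.surjective
    · intro c
      show f (e c) = 1 ↔ _
      rw [← MonoidHom.mem_ker, hker, Subgroup.mem_subgroupOf]
      rfl
    · intro N hNQ hN
      by_cases hall : ∀ n ∈ N, n = 1 ∨ n = γ 1
      · exact Or.inl hall
      · right
        push Not at hall
        obtain ⟨x, hx, hx1, hxa⟩ := hall
        refine h.eq_top_of_normal N hNQ ?_ hx hx1 hxa
        intro g hg n hn
        have h1 := hN g⁻¹ (h.mem_C.mp (Subgroup.inv_mem _ hg)) n hn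
        rwa [inv_inv] at h1
    · refine ⟨cc γ 0, h.cc_mem 0, ?_, ?_⟩
      · intro h1
        have h6 := mask_c h.data 0
        rw [h1] at h6
        exact absurd (unique h.data h6 (mask_one h.data)) (by decide +kernel)
      · intro h1
        have h6 := mask_c h.data 0
        rw [h1] at h6
        exact absurd (unique h.data h6 (mask_a h.data)) (by decide +kernel)
    · rw [h.cent, h.index_eq]
      decide
    · intro β
      obtain ⟨c₀, hc₀⟩ := Nor.nor h ((e.symm.trans β).trans e)
      refine ⟨e.symm c₀, fun q hq => ?_⟩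
      have h1 := hc₀ (e q) hq
      have h2 : ((e.symm.trans β).trans e) (e q) = e (β q) := by
        rw [MulEquiv.trans_apply, MulEquiv.trans_apply, MulEquiv.symm_apply_apply]
      rw [h2] at h1
      exact h1
    · refine ⟨Fuse.nn γ, ?_, ?_, Fuse.gen h⟩
      · rw [Fuse.n_a h, ← cc_zero (γ := γ)]; exact h.cc_mem 0
      · rw [Fuse.n_a h, ← cc_zero (γ := γ)]
        intro h1
        have h6 := mask_c h.data 0
        rw [h1] at h6
        exact absurd (unique h.data h6 (mask_a h.data)) (by decide +kernel)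
    · exact Fuse.out h
  · have hw4 : ∀ x ∈ [4], isC x = true := by decide
    have hC : ev γ [4] ∈ Subgroup.centralizer ({γ 1} : Set G) := by rw [h.cent]; exact ev_mem_sub hw4
    have h1 : ((f (e ⟨ev γ [4], hC⟩) : alternatingGroup (Fin 9)) : Equiv.Perm (Fin 9)) = ev (rho isTab9) [4] := by
      rw [← hw [4] hw4]
      rfl
    refine ⟨⟨ev γ [4], hC⟩, Subtype.ext ?_, ?_, Equiv.swap 0 1, Equiv.Perm.sign_swap (by decide), ?_⟩
    · show ev γ [4] * ev γ [4] = 1
      rw [ev_singleton, ← pow_two]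
      exact h.K.d2
    · show A9Four.T2 ((f (e ⟨ev γ [4], hC⟩) : alternatingGroup (Fin 9)) : Equiv.Perm (Fin 9))
      rw [h1]
      unfold A9Four.T2
      decide +kernel
    · show Equiv.swap 0 1 * ((f (e ⟨ev γ [4], hC⟩) : alternatingGroup (Fin 9)) : Equiv.Perm (Fin 9)) =
        ((f (e ⟨ev γ [4], hC⟩) : alternatingGroup (Fin 9)) : Equiv.Perm (Fin 9)) * Equiv.swap 0 1
      rw [h1]
      decide +kernel

end

section main

variable {G : Type u} [Group G] {γ : ℕ → G} (h : Ctx γ)
  {π : Subgroup.centralizer ({γ 1} : Set G) →* alternatingGroup (Fin 9)}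
  (D : Cfsg.Agent.KFacts.LargeSheet.Data (Q0 γ) (γ 1) (alternatingGroup (Fin 9)) π)
  (s : Subgroup.centralizer ({γ 1} : Set G)) (hs : s * s = 1) (hT : A9Four.T2 (π s : Equiv.Perm (Fin 9)))
  (c : Equiv.Perm (Fin 9)) (hc : Equiv.Perm.sign c = -1)
  (hcs : c * (π s : Equiv.Perm (Fin 9)) = (π s : Equiv.Perm (Fin 9)) * c)

include D hs hT hc hcs in
/-- involutions of type `2^4` lift to involutions -/
theorem exists_lift (σ : alternatingGroup (Fin 9)) (hσ : A9Four.T2 (σ : Equiv.Perm (Fin 9))) :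
    ∃ t : Subgroup.centralizer ({γ 1} : Set G), t * t = 1 ∧ π t = σ := by
  obtain ⟨k, hk⟩ := conjA σ (π s) (hσ.trans hT.symm) c hc hcs
  obtain ⟨g, rfl⟩ := D.surj k
  refine ⟨g⁻¹ * s * g⁻¹⁻¹, Cfsg.Agent.H529.Inv.sq_conj hs g⁻¹, ?_⟩
  simp only [map_mul, map_inv]
  rw [← hk]
  group

include h D hs hT hc hcs in
/-- **every element of the centralizer is a product of four elements of square one** -/
theorem i4_centralizer (g : Subgroup.centralizer ({γ 1} : Set G)) : Cfsg.Agent.H529.Inv.I4 g := by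
  have hfin := h.fin
  obtain ⟨t1, t2, t3, t4, T1, T2, T3, T4, e, h5⟩ := A9Four.four (π g)
  obtain ⟨a, ha, rfl⟩ := exists_lift D s hs hT c hc hcs t1 T1
  obtain ⟨b, hb, rfl⟩ := exists_lift D s hs hT c hc hcs t2 T2
  obtain ⟨a', ha', rfl⟩ := exists_lift D s hs hT c hc hcs t3 T3
  obtain ⟨b', hb', rfl⟩ := exists_lift D s hs hT c hc hcs t4 T4
  -- `g = (a b) (a' b') n`
  have hn : (a * b * (a' * b'))⁻¹ * g ∈ π.ker := by
    rw [MonoidHom.mem_ker, map_mul, map_inv, e]
    simp only [map_mul]
    group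
  have hz := (es D).central
  have hzz : zz γ * zz γ = 1 := (es D).sq
  let N : ℕ → Subgroup (Subgroup.centralizer ({γ 1} : Set G)) := fun i =>
    if i = 0 then Subgroup.zpowers (zz γ) else π.ker
  have memZ : ∀ x ∈ Subgroup.zpowers (zz γ), x = 1 ∨ x = zz γ := by
    rintro x ⟨k, rfl⟩
    rcases Int.even_or_odd' k with ⟨m, rfl | rfl⟩
    · left
      show (zz γ) ^ (2 * m) = 1
      rw [zpow_mul, zpow_two, hzz, one_zpow]
    · right
      show (zz γ) ^ (2 * m + 1) = zz γ
      rw [zpow_add, zpow_mul, zpow_two, hzz, one_zpow, one_mul, zpow_one]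
  have memZ' : ∀ x, (x = 1 ∨ x = zz γ) → x ∈ Subgroup.zpowers (zz γ) := by
    rintro x (rfl | rfl)
    · exact Subgroup.one_mem _
    · exact Subgroup.mem_zpowers _
  have hN : ∀ i, (N i).Normal := by
    intro i
    by_cases hi : i = 0
    · simp only [N, hi, if_true]
      refine ⟨fun x hx k => ?_⟩
      apply memZ'
      rcases memZ x hx with rfl | rfl
      · left; simp
      · right
        rw [hz k]
        group
    · simp only [N, hi, if_false]
      infer_instance
  have hI : Cfsg.Agent.H529.Inv.I4 (a * b * (a' * b') * ((a * b * (a' * b'))⁻¹ * g)) := by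
    refine Cfsg.Agent.H529.Inv.coset_two_central N 1 ⟨a, b, ha, hb, rfl⟩ ⟨a', b', ha', hb', rfl⟩ ?_ ?_ ?_ ?_ ?_
    · intro x hx
      have hx : x ∈ Subgroup.zpowers (zz γ) := hx
      rcases memZ x hx with rfl | rfl
      · exact ⟨by simp, fun g => by simp⟩
      · exact ⟨hzz, fun g => (hz g).symm⟩
    · intro i hi x hx
      have hi0 : i = 0 := by omega
      subst hi0
      have hx : x ∈ Subgroup.zpowers (zz γ) := hx
      show x ∈ π.ker
      rcases memZ x hx with rfl | rfl
      · exact Subgroup.one_mem _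
      · exact (es D).mem
    · intro i hi x hx y hy
      have hi0 : i = 0 := by omega
      subst hi0
      have hx : x ∈ π.ker := hx
      have hy : y ∈ π.ker := hy
      show ⁅x, y⁆ ∈ Subgroup.zpowers (zz γ)
      apply memZ'
      rw [commutatorElement_def]
      rcases (es D).comm x hx y hy with e1 | e1
      · left; rw [e1]; group
      · right; rw [e1, hz]; group
    · intro i hi
      have hi0 : i = 0 := by omega
      subst hi0
      show Cfsg.Agent.H529.Inv.CovS {a * b, a' * b'} π.ker (Subgroup.zpowers (zz γ))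
      have : (Subgroup.zpowers (zz γ)).Normal := hN 0
      refine Cfsg.Agent.H529.Inv.CovS.of_fpf (x := a * b) ?_ (Subgroup.subset_closure (by simp)) ?_
      · intro x hx y hy
        apply memZ'
        rw [commutatorElement_def]
        rcases (es D).comm x hx y hy with e1 | e1
        · left; rw [e1]; group
        · right; rw [e1, hz]; group
      · intro p hp hc
        apply memZ'
        refine fpf_of_dvd h D (a := a * b) (by rwa [map_mul]) hp ?_
        rcases memZ _ hc with e1 | e1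
        · left
          rw [commutatorElement_eq_one_iff_mul_comm] at e1
          rw [← e1]; group
        · right
          rw [commutatorElement_def] at e1
          have e2 : (a * b) * p⁻¹ * (a * b)⁻¹ = p⁻¹ * zz γ := by
            rw [← e1]; group
          have e3 : (a * b) * p * (a * b)⁻¹ = ((a * b) * p⁻¹ * (a * b)⁻¹)⁻¹ := by group
          rw [e3, e2, mul_inv_rev, inv_inv, inv_eq_of_mul_eq_one_right hzz, hz]
    · exact hn
  rwa [mul_inv_cancel_left] at hI

end main

/-- **Every element of `Th` which commutes with the involution `gTh 1` is a product of four elements of square one.** -/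
theorem i4_of_comm {x : Cfsg.Spor.Th} (hx : x * gTh 1 = gTh 1 * x) : Cfsg.Agent.H529.Inv.I4 x := by
  obtain ⟨π, D, s, hs, hT, c, hc, hcs⟩ := exists_data Cfsg.Agent.KFacts.Th.Main.ctx
  have hC : x ∈ Subgroup.centralizer ({gTh 1} : Set Cfsg.Spor.Th) := Subgroup.mem_centralizer_singleton_iff.2 hx
  have := (i4_centralizer Cfsg.Agent.KFacts.Th.Main.ctx D s hs hT c hc hcs ⟨x, hC⟩).map
    (Subgroup.centralizer ({gTh 1} : Set Cfsg.Spor.Th)).subtype
  exact this

/-- **Every element of `Th` which commutes with an involution is a product of four elements of square one.** -/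
theorem i4_of_comm_inv {x i : Cfsg.Spor.Th} (hi : orderOf i = 2) (hx : x * i = i * x) : Cfsg.Agent.H529.Inv.I4 x := by
  obtain ⟨g, hg⟩ := isConj_iff.1 (Cfsg.Agent.MonsterX.ThOneClass.oneClass i (gTh 1) hi
    Cfsg.Agent.MonsterX.ThOneClass.orderOf_a)
  have h1 : Cfsg.Agent.H529.Inv.I4 (g * x * g⁻¹) := i4_of_comm (by
    rw [← hg]
    calc g * x * g⁻¹ * (g * i * g⁻¹) = g * (x * i) * g⁻¹ := by group
      _ = g * (i * x) * g⁻¹ := by rw [hx]
      _ = g * i * g⁻¹ * (g * x * g⁻¹) := by group)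
  have h2 := h1.conj g⁻¹
  rwa [show g⁻¹ * (g * x * g⁻¹) * g⁻¹⁻¹ = x by group] at h2

end Cfsg.Agent.H75.Ore.ThLocFour
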